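/-
Abelian Sylow subgroups of fixed point groups of automorphisms of order prime to the prime.
-/
import Mathlib

set_option autoImplicit false

namespace CfsgLib.Chev.LargePrime

universe u

/-- Every element of order dividing `r ^ j` is an `r ^ (v - j)`-th power. -/
def RootDiv (r v : ℕ) {G : Type*} [Group G] (M : Subgroup G) : Prop :=
  ∀ x ∈ M, ∀ j ≤ v, x ^ r ^ j = 1 → ∃ z ∈ M, z ^ r ^ (v - j) = x

/-- Fixed points of a group of automorphisms of order prime to `r` inherit the divisibility. -/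
theorem fixed_div {M : Type*} [CommGroup M] [Finite M] {r v : ℕ} [hr : Fact r.Prime]
    (Γ : Subgroup (MulAut M)) (hΓ : ¬ r ∣ Nat.card Γ) (hexp : ∀ x : M, x ^ r ^ v = 1)
    (hdiv : RootDiv r v (⊤ : Subgroup M)) {x : M} (hx : ∀ γ ∈ Γ, γ x = x) {j : ℕ} (hj : j ≤ v)
    (hxj : x ^ r ^ j = 1) : ∃ y : M, (∀ γ ∈ Γ, γ y = y) ∧ y ^ r ^ (v - j) = x := by
  classical
  haveI : Finite (MulAut M) := Finite.of_injective (fun γ : MulAut M => (γ : M → M)) DFunLike.coe_injective
  haveI : Fintype Γ := Fintype.ofFinite _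
  obtain ⟨z, -, hz⟩ := hdiv x trivial j hj hxj
  set w : M := ∏ γ : Γ, (γ : MulAut M) z with hw
  have hwfix : ∀ γ ∈ Γ, γ w = w := fun γ hγ => by
    rw [hw, map_prod]
    exact Fintype.prod_equiv (Equiv.mulLeft ⟨γ, hγ⟩) _ _ fun δ => rfl
  have hwp : w ^ r ^ (v - j) = x ^ Nat.card Γ := by
    rw [hw, ← Finset.prod_pow, Finset.prod_congr rfl fun (γ : Γ) _ => by
      rw [← map_pow, hz, hx γ γ.2], Finset.prod_const, Finset.card_univ, Nat.card_eq_fintype_card]
  have hco : (Nat.card Γ).Coprime (r ^ v) :=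
    Nat.Coprime.pow_right _ ((hr.out.coprime_iff_not_dvd.2 hΓ).symm)
  rcases Nat.eq_zero_or_pos v with rfl | hv
  · exact ⟨x, hx, by simp⟩
  obtain ⟨k, -, hk⟩ := Nat.exists_mul_mod_eq_one_of_coprime hco (Nat.one_lt_pow hv.ne' hr.out.one_lt)
  refine ⟨w ^ k, fun γ hγ => by rw [map_pow, hwfix γ hγ], ?_⟩
  rw [← pow_mul, mul_comm, pow_mul, hwp, ← pow_mul, ← Nat.mod_add_div (Nat.card Γ * k) (r ^ v), hk,
    pow_add, pow_one, pow_mul, hexp, one_pow, mul_one]

/-- Groups with exponent `r ^ v` and the divisibility are homocyclic. -/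
theorem equiv_of_div {A : Type u} [CommGroup A] [Finite A] {r v a : ℕ} [hr : Fact r.Prime] (hv : v ≠ 0)
    (hexp : ∀ x : A, x ^ r ^ v = 1) (hdiv : RootDiv r v (⊤ : Subgroup A))
    (hcard : Nat.card A = r ^ (a * v)) : Nonempty (A ≃* (Fin a → Multiplicative (ZMod (r ^ v)))) := by
  classical
  obtain ⟨ι, _, n, hn, ⟨e⟩⟩ := CommGroup.equiv_prod_multiplicative_zmod_of_finite A
  have key : ∀ i, n i = r ^ v := by
    intro i
    set x := e.symm (Pi.mulSingle i (Multiplicative.ofAdd (1 : ZMod (n i)))) with hx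
    have hord : orderOf (Multiplicative.ofAdd (1 : ZMod (n i))) = n i := by
      rw [orderOf_ofAdd_eq_addOrderOf, ZMod.addOrderOf_one]
    have hdvd : n i ∣ r ^ v := by
      rw [← hord]
      refine orderOf_dvd_of_pow_eq_one ?_
      have h1 := hexp x
      rw [hx, ← map_pow, MulEquiv.map_eq_one_iff] at h1
      have := congrFun h1 i
      simpa using this
    obtain ⟨k, hk, hnk⟩ := (Nat.dvd_prime_pow hr.out).1 hdvd
    have hxk : x ^ r ^ k = 1 := by
      rw [hx, ← map_pow, ← Pi.mulSingle_pow, orderOf_dvd_iff_pow_eq_one.1 (dvd_of_eq (hord.trans hnk)),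
        Pi.mulSingle_one, map_one]
    obtain ⟨z, -, hz⟩ := hdiv x trivial k hk hxk
    rcases hk.eq_or_lt with rfl | hlt
    · exact hnk
    exfalso
    have h2 := congrArg (fun y => e y i) hz
    simp only [map_pow, Pi.pow_apply, hx, MulEquiv.apply_symm_apply, Pi.mulSingle_eq_same] at h2
    have h3 : orderOf (e z i ^ r ^ (v - k)) = r ^ k := by rw [h2, hord, hnk]
    have h4 : ((e z i ^ r ^ (v - k)) ^ r ^ (k - 1)) = 1 := by
      rw [← pow_mul, ← pow_add]
      refine orderOf_dvd_iff_pow_eq_one.1 ?_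
      refine (orderOf_dvd_natCard (e z i)).trans ?_
      rw [Nat.card_congr Multiplicative.toAdd, Nat.card_zmod, hnk]
      exact pow_dvd_pow _ (by omega)
    have h5 := orderOf_dvd_of_pow_eq_one h4
    rw [h3, Nat.pow_dvd_pow_iff_le_right hr.out.one_lt] at h5
    have : 1 < r ^ k := hnk ▸ hn i
    have : k ≠ 0 := fun h => by simp [h] at this
    omega
  have hι : Fintype.card ι = a := by
    have h := Nat.card_congr e.toEquiv
    rw [hcard, Nat.card_pi, Finset.prod_congr rfl fun i _ => by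
      rw [Nat.card_congr Multiplicative.toAdd, Nat.card_zmod, key i], Finset.prod_const, Finset.card_univ,
      ← pow_mul] at h
    have h' := Nat.pow_right_injective hr.out.two_le h
    rw [mul_comm a v] at h'
    exact (Nat.eq_of_mul_eq_mul_left (Nat.pos_of_ne_zero hv) h').symm
  exact ⟨e.trans ((MulEquiv.piCongrRight fun i => AddEquiv.toMultiplicative
    ((ZMod.ringEquivCongr (key i)).toAddEquiv)).trans
    { toEquiv := Equiv.arrowCongr (Fintype.equivFinOfCardEq hι) (Equiv.refl _), map_mul' := fun _ _ => rfl })⟩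

variable {Q : Type u} [Group Q] [Finite Q] {r : ℕ} [hr : Fact r.Prime]

/-- An element of prime power order normalising a Sylow subgroup lies in it. -/
theorem mem_sylow (S : Sylow r Q) {z : Q} {k : ℕ} (hz : z ^ r ^ k = 1)
    (hn : z ∈ Subgroup.normalizer ((S : Subgroup Q) : Set Q)) : z ∈ (S : Subgroup Q) := by
  have hp : IsPGroup r ↥(Subgroup.zpowers z) := fun ⟨y, hy⟩ => by
    obtain ⟨i, rfl⟩ := hy
    refine ⟨k, Subtype.ext ?_⟩
    show (z ^ i) ^ r ^ k = 1
    rw [← zpow_natCast, ← zpow_mul, mul_comm, zpow_mul, zpow_natCast, hz, one_zpow]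
  have h := IsPGroup.to_sup_of_normal_right' hp S.isPGroup' ((Subgroup.zpowers_le).2 hn)
  have h' := S.3 h le_sup_right
  rw [← h']
  exact Subgroup.mem_sup_left (Subgroup.mem_zpowers z)

/-- The Sylow subgroups of a fixed point group, given the structure of those of the whole group. -/
theorem sylow_homocyclic {G : Type*} [Group G] [Finite G] (f : G →* Q) (hf : Function.Injective f)
    (σ : MulAut Q) {d : ℕ} (hd : σ ^ d = 1) (hrd : ¬ r ∣ d) {F : Subgroup Q}
    (hF : ∀ x, x ∈ F ↔ σ x = x) (hfF : f.range ≤ F) (hidx : ¬ r ∣ f.range.relIndex F)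
    (T : Sylow r Q) (hcomm : ∀ x ∈ (T : Subgroup Q), ∀ y ∈ (T : Subgroup Q), Commute x y)
    {v a : ℕ} (hv : v ≠ 0) (hexp : ∀ x ∈ (T : Subgroup Q), x ^ r ^ v = 1)
    (hdiv : RootDiv r v (T : Subgroup Q))
    (key : ∀ A : Set Q, A ⊆ (T : Subgroup Q) → ∀ t ∈ (T : Subgroup Q),
      (∀ n : Q, (∀ x ∈ A, Commute n x) → n ∈ Subgroup.normalizer ((T : Subgroup Q) : Set Q) → Commute n t) →
      ∀ c : Q, (∀ x ∈ A, Commute c x) → Commute c t)
    (hcard : (Nat.card G).factorization r = a * v) (P : Sylow r G) :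
    Nonempty (↥(P : Subgroup G) ≃* (Fin a → Multiplicative (ZMod (r ^ v)))) := by
  classical
  set P1 : Subgroup Q := (P : Subgroup G).map f with hP1
  have hp1 : IsPGroup r P1 := P.isPGroup'.map f
  obtain ⟨S, hS⟩ := hp1.exists_le_sylow
  obtain ⟨g, hg⟩ := MulAction.exists_smul_eq Q T S
  have hmemS : ∀ x : Q, x ∈ (S : Subgroup Q) ↔ g⁻¹ * x * g ∈ (T : Subgroup Q) := fun x => by
    rw [← hg, Sylow.coe_subgroup_smul, Subgroup.mem_pointwise_smul_iff_inv_smul_mem]
    simp [MulAut.smul_def]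
  set cj : Q ≃* Q := MulAut.conj g with hcj
  have hcjv : ∀ x, cj x = g * x * g⁻¹ := fun x => rfl
  have hScomm : ∀ x ∈ (S : Subgroup Q), ∀ y ∈ (S : Subgroup Q), Commute x y := fun x hx y hy => by
    have h := (hcomm _ ((hmemS x).1 hx) _ ((hmemS y).1 hy)).map cj
    simpa [hcjv, mul_assoc] using h
  let Z : Subgroup Q :=
    { carrier := {z | z ∈ (S : Subgroup Q) ∧ ∀ c : Q, (∀ x ∈ P1, Commute c x) → Commute c z}
      one_mem' := ⟨one_mem _, fun c _ => Commute.one_right c⟩
      mul_mem' := fun ha hb => ⟨mul_mem ha.1 hb.1, fun c hc => (ha.2 c hc).mul_right (hb.2 c hc)⟩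
      inv_mem' := fun ha => ⟨inv_mem ha.1, fun c hc => (ha.2 c hc).inv_right⟩ }
  have hP1Z : P1 ≤ Z := fun x hx => ⟨hS hx, fun c hc => hc x hx⟩
  have hZexp : ∀ z ∈ Z, z ^ r ^ v = 1 := fun z hz => by
    have := congrArg cj (hexp _ ((hmemS z).1 hz.1))
    rwa [map_pow, map_one, hcjv, show g * (g⁻¹ * z * g) * g⁻¹ = z by group] at this
  -- the divisibility inside the centre of the centraliser
  have hZdiv : RootDiv r v Z := by
    intro z hz j hj hzj
    let A : Set Q := {x | g * x * g⁻¹ ∈ P1}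
    have hA : A ⊆ (T : Subgroup Q) := fun x hx => by
      have := (hmemS _).1 (hS hx)
      rwa [show g⁻¹ * (g * x * g⁻¹) * g = x by group] at this
    let N : Subgroup Q := Subgroup.normalizer ((T : Subgroup Q) : Set Q) ⊓ Subgroup.centralizer A
    let θ : ↥N →* MulAut ↥(T : Subgroup Q) :=
      (Subgroup.normalizerMonoidHom (T : Subgroup Q)).comp (Subgroup.inclusion inf_le_left)
    have hθ : ∀ (n : ↥N) (t : ↥(T : Subgroup Q)), ((θ n t : ↥(T : Subgroup Q)) : Q) = n * t * (n : Q)⁻¹ :=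
      fun n t => rfl
    letI : CommGroup ↥(T : Subgroup Q) :=
      { (inferInstance : Group ↥(T : Subgroup Q)) with
        mul_comm := fun x y => Subtype.ext (hcomm x x.2 y y.2).eq }
    have hTN : (T : Subgroup Q) ≤ N := fun x hx =>
      ⟨Subgroup.le_normalizer hx, Subgroup.mem_centralizer_iff.2 fun y hy => (hcomm y (hA hy) x hx).eq⟩
    have hker : (T : Subgroup Q).subgroupOf N ≤ θ.ker := fun n hn => by
      refine MulEquiv.ext fun t => Subtype.ext ?_
      rw [hθ, (hcomm _ (Subgroup.mem_subgroupOf.1 hn) _ t.2).eq, mul_inv_cancel_right]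
      rfl
    have hΓ : ¬ r ∣ Nat.card θ.range := fun h => by
      rw [← Subgroup.index_ker] at h
      have h2 : ((T : Subgroup Q).subgroupOf N).index ∣ (T : Subgroup Q).index :=
        ⟨N.index, (Subgroup.relIndex_mul_index hTN).symm⟩
      exact T.not_dvd_index ((h.trans (Subgroup.index_dvd_of_le hker)).trans h2)
    let x : ↥(T : Subgroup Q) := ⟨g⁻¹ * z * g, (hmemS z).1 hz.1⟩
    have hxfix : ∀ γ ∈ θ.range, γ x = x := by
      rintro γ ⟨n, rfl⟩
      refine Subtype.ext ?_
      rw [hθ]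
      have hc : Commute (g * (n : Q) * g⁻¹) z := hz.2 _ fun y hy => by
        have h := (show Commute (g⁻¹ * y * g) (n : Q) from
          Subgroup.mem_centralizer_iff.1 n.2.2 (g⁻¹ * y * g) (by simpa [A, mul_assoc] using hy)).symm.map cj
        simpa [hcjv, mul_assoc] using h
      have h := hc.map cj.symm
      simp only [hcj, MulAut.conj_symm_apply] at h
      rw [show g⁻¹ * (g * (n : Q) * g⁻¹) * g = (n : Q) by group] at h
      show (n : Q) * (g⁻¹ * z * g) * (n : Q)⁻¹ = g⁻¹ * z * g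
      rw [h.eq, mul_inv_cancel_right]
    obtain ⟨y, hyfix, hy⟩ := fixed_div θ.range hΓ (fun t => Subtype.ext (hexp t t.2))
      (fun t _ j hj htj => by
        obtain ⟨w, hw, hw'⟩ := hdiv t t.2 j hj (congrArg Subtype.val htj)
        exact ⟨⟨w, hw⟩, trivial, Subtype.ext hw'⟩) hxfix hj
      (Subtype.ext (by
        show (g⁻¹ * z * g) ^ r ^ j = 1
        have := congrArg cj.symm hzj
        simpa [map_pow, hcj, MulAut.conj_symm_apply] using this))
    refine ⟨g * y * g⁻¹, ⟨(hmemS _).2 (by simpa [mul_assoc] using y.2), fun c hc => ?_⟩, ?_⟩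
    · have hk := key A hA y y.2 (fun n hn1 hn2 => by
        have hnN : n ∈ N := ⟨hn2, Subgroup.mem_centralizer_iff.2 fun w hw => (hn1 w hw).eq.symm⟩
        have := congrArg Subtype.val (hyfix (θ ⟨n, hnN⟩) ⟨_, rfl⟩)
        rw [hθ] at this
        exact mul_inv_eq_iff_eq_mul.1 this) (g⁻¹ * c * g) fun w hw => by
          have h := (hc _ hw).map cj.symm
          simp only [hcj, MulAut.conj_symm_apply] at h
          rwa [show g⁻¹ * (g * w * g⁻¹) * g = w by group] at h
      have h := hk.map cj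
      simpa [hcjv, mul_assoc] using h
    · have h : (y : Q) ^ r ^ (v - j) = g⁻¹ * z * g := congrArg Subtype.val hy
      rw [← hcjv, ← map_pow, h, hcjv]
      group
  -- the automorphism
  have hfixP : ∀ x ∈ P1, σ x = x := by
    rintro x ⟨p, -, rfl⟩
    exact (hF _).1 (hfF ⟨p, rfl⟩)
  have hσC : ∀ (τ : MulAut Q), (∀ x ∈ P1, τ x = x) → ∀ z ∈ Z, τ z ∈ Z := by
    intro τ hτ z hz
    have hτ' : ∀ x ∈ P1, τ.symm x = x := fun x hx => by
      conv_lhs => rw [← hτ x hx]
      exact τ.symm_apply_apply x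
    have hc : ∀ c, (∀ x ∈ P1, Commute c x) → Commute c (τ z) := fun c hc => by
      have h1 : Commute (τ.symm c) z := hz.2 _ fun x hx => by
        have := (hc x hx).map τ.symm
        rwa [hτ' x hx] at this
      simpa using h1.map τ
    refine ⟨mem_sylow S (k := v) (by rw [← map_pow, hZexp z hz, map_one]) ?_, hc⟩
    refine Subgroup.centralizer_le_normalizer _ ?_
    exact Subgroup.mem_centralizer_iff.2 fun s hs => (hc s fun x hx => hScomm s hs x (hS hx)).eq
  have hσ' : ∀ x ∈ P1, σ.symm x = x := fun x hx => by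
    conv_lhs => rw [← hfixP x hx]
    exact σ.symm_apply_apply x
  let τ : MulAut ↥Z :=
    { toFun := fun z => ⟨σ z, hσC σ hfixP z z.2⟩
      invFun := fun z => ⟨σ.symm z, hσC σ.symm hσ' z z.2⟩
      left_inv := fun z => Subtype.ext (σ.symm_apply_apply _)
      right_inv := fun z => Subtype.ext (σ.apply_symm_apply _)
      map_mul' := fun x y => Subtype.ext (map_mul σ _ _) }
  have hτpow : ∀ k (z : ↥Z), (((τ ^ k) z : ↥Z) : Q) = (σ ^ k) z := by
    intro k
    induction k with
    | zero => intro z; rfl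
    | succ k ih => intro z; rw [pow_succ', pow_succ', MulAut.mul_apply, MulAut.mul_apply, ← ih]; rfl
  have hτd : τ ^ d = 1 := MulEquiv.ext fun z => Subtype.ext (by rw [hτpow, hd]; rfl)
  letI : CommGroup ↥Z :=
    { (inferInstance : Group ↥Z) with
      mul_comm := fun x y => Subtype.ext (hScomm x x.2.1 y y.2.1).eq }
  have hΓ : ¬ r ∣ Nat.card (Subgroup.zpowers τ) := fun h => by
    rw [Nat.card_zpowers] at h
    exact hrd (h.trans (orderOf_dvd_of_pow_eq_one hτd))
  have hpF : Nat.card P1 = r ^ (a * v) := by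
    rw [hP1, Subgroup.card_map_of_injective hf, P.card_eq_multiplicity, hcard]
  let W : Subgroup Q := Z ⊓ F
  have hWP : W = P1 := by
    refine (Subgroup.eq_of_le_of_card_ge (fun x hx => Subgroup.mem_inf.2
      ⟨hP1Z hx, (hF x).2 (hfixP x hx)⟩) ?_).symm
    have hW : IsPGroup r W := S.isPGroup'.to_le fun x hx => hx.1.1
    obtain ⟨n, hn⟩ := IsPGroup.iff_card.1 hW
    have h1 : r ^ n ∣ Nat.card F := by rw [← hn]; exact Subgroup.card_dvd_of_le inf_le_right
    have h2 : Nat.card F = Nat.card G * f.range.relIndex F := by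
      rw [← Subgroup.relIndex_bot_left F, ← Subgroup.relIndex_mul_relIndex ⊥ f.range F bot_le hfF,
        Subgroup.relIndex_bot_left, Nat.card_congr (MonoidHom.ofInjective hf).toEquiv]
    rw [h2, mul_comm] at h1
    have h3 : r ^ n ∣ Nat.card G :=
      ((Nat.Coprime.pow_left n (hr.out.coprime_iff_not_dvd.2 hidx))).dvd_of_dvd_mul_left h1
    rw [hr.out.pow_dvd_iff_le_factorization Nat.card_pos.ne', hcard] at h3
    rw [hn, hpF]
    exact Nat.pow_le_pow_right hr.out.pos h3
  letI : CommGroup ↥P1 :=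
    { (inferInstance : Group ↥P1) with
      mul_comm := fun x y => Subtype.ext (hScomm x (hS x.2) y (hS y.2)).eq }
  obtain ⟨e⟩ := equiv_of_div (A := ↥P1) hv (fun x => Subtype.ext (hZexp x (hP1Z x.2)))
    (fun x _ j hj hxj => by
      obtain ⟨y, hy, hyx⟩ := fixed_div (M := ↥Z) (Subgroup.zpowers τ) hΓ
        (fun z => Subtype.ext (hZexp z z.2))
        (fun z _ j hj hzj => by
          obtain ⟨w, hw, hw'⟩ := hZdiv z z.2 j hj (congrArg Subtype.val hzj)
          exact ⟨⟨w, hw⟩, trivial, Subtype.ext hw'⟩)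
        (x := ⟨x, hP1Z x.2⟩) (fun γ hγ => by
          obtain ⟨k, rfl⟩ := Subgroup.mem_zpowers_iff.1 hγ
          have h1 : τ ⟨x, hP1Z x.2⟩ = ⟨x, hP1Z x.2⟩ := Subtype.ext (hfixP x x.2)
          exact (Subgroup.zpow_mem (MulAction.stabilizer (MulAut ↥Z) (⟨x, hP1Z x.2⟩ : ↥Z)) h1 k)) hj
          (Subtype.ext (by simpa using congrArg Subtype.val hxj))
      have hyF : σ (y : Q) = y := congrArg Subtype.val (hy τ (Subgroup.mem_zpowers τ))
      refine ⟨⟨y, ?_⟩, trivial, Subtype.ext (by simpa using congrArg Subtype.val hyx)⟩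
      rw [← hWP]
      exact ⟨y.2, (hF _).2 hyF⟩) hpF
  exact ⟨(Subgroup.equivMapOfInjective _ f hf).trans e⟩

end CfsgLib.Chev.LargePrime
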