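/-
Sylow subgroups of Chevalley groups for primes not dividing the order of the Weyl group.
-/
import Mathlib
import Cfsg.Agent.Lib.Known.ChevFixedPoints
import Cfsg.Agent.Lib.Known.ChevSinger.Bruhat
import Cfsg.Agent.Lib.Classical.GLSylowLargePrime
import Cfsg.Agent.Lib.Chev.SL2
import Cfsg.Agent.Lib.Chev.LargePrime.Homocyclic

set_option autoImplicit false

namespace CfsgLib.Chev.LargePrime

open Cfsg.Lie CfsgLib.Chev CfsgLib.Chev.FixedPoints CfsgLib.Known.ChevSinger

universe u v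

/-- The `r`-adic value of a product of `q ^ e - 1`. -/
theorem padic_pow_sub_one {q r : ℕ} (hq : 2 ≤ q) [hr : Fact r.Prime] {j : ℕ} (hj : 1 ≤ j) (hjr : ¬ r ∣ j) :
    padicValNat r (q ^ j - 1) =
      if orderOf (q : ZMod r) ∣ j then padicValNat r (q ^ orderOf (q : ZMod r) - 1) else 0 := by
  set d := orderOf (q : ZMod r) with hd
  split_ifs with h
  · obtain ⟨t, ht⟩ := h
    have hd0 : d ≠ 0 := fun e => by rw [e, zero_mul] at ht; omega
    have hx : 2 ≤ q ^ d := le_trans hq (Nat.le_self_pow hd0 q)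
    have hS : (∑ i ∈ Finset.range t, (q ^ d) ^ i) * (q ^ d - 1) = q ^ j - 1 := by
      rw [Nat.geomSum_eq hx, Nat.div_mul_cancel (Nat.sub_one_dvd_pow_sub_one _ t), ← pow_mul, ← ht]
    have hndvd : ¬ r ∣ ∑ i ∈ Finset.range t, (q ^ d) ^ i := by
      rw [← ZMod.natCast_eq_zero_iff, Nat.cast_sum]
      simp only [Nat.cast_pow, hd, pow_orderOf_eq_one, one_pow, Finset.sum_const, Finset.card_range,
        nsmul_eq_mul, mul_one]
      rw [ZMod.natCast_eq_zero_iff]
      exact fun h1 => hjr (ht ▸ h1.mul_left d)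
    rw [← hS, padicValNat.mul (fun e => hndvd (by rw [e]; exact dvd_zero r)) (by omega),
      padicValNat.eq_zero_of_not_dvd hndvd, zero_add]
  · exact padicValNat.eq_zero_of_not_dvd fun h' =>
      h ((CfsgLib.PrimeGraphPSL.orderOf_natCast_dvd_iff (by omega : 1 ≤ q)).2 h')

theorem factorization_prod {q r : ℕ} (hq : 2 ≤ q) [hr : Fact r.Prime] : ∀ (degs : List ℕ),
    (∀ e ∈ degs, ¬ r ∣ e) → (degs.map fun e => q ^ e - 1).prod.factorization r =
      (degs.filter fun e => orderOf (q : ZMod r) ∣ e).length *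
        padicValNat r (q ^ orderOf (q : ZMod r) - 1) := by
  intro degs
  induction degs with
  | nil => intro _; simp
  | cons e L ih =>
    intro h
    have hne : ∀ e : ℕ, ¬ r ∣ e → q ^ e - 1 ≠ 0 := fun e he => by
      have h0 : e ≠ 0 := fun h0 => he (by rw [h0]; exact dvd_zero r)
      have := Nat.one_lt_pow h0 (by omega : 1 < q)
      omega
    have hp : (L.map fun e => q ^ e - 1).prod ≠ 0 := List.prod_ne_zero fun h0 => by
      obtain ⟨x, hx, hx0⟩ := List.mem_map.1 h0
      exact hne x (h x (List.mem_cons_of_mem _ hx)) hx0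
    have he := h e List.mem_cons_self
    rw [List.map_cons, List.prod_cons, Nat.factorization_mul (hne e he) hp, Finsupp.add_apply,
      ih fun x hx => h x (List.mem_cons_of_mem _ hx), Nat.factorization_def _ hr.out,
      padic_pow_sub_one hq (Nat.pos_of_ne_zero fun h0 => he (by rw [h0]; exact dvd_zero r)) he, List.filter_cons]
    by_cases hd : orderOf (q : ZMod r) ∣ e
    · simp [hd, List.length_cons]; ring
    · simp [hd]

variable {D : ChevalleyDatum} {co : ℕ → ℕ → ℤ} (hF : Facts D co)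
include hF

section Bruhat

variable {K : Type v} [Field K]

/-- A positive element centralised by a family of diagonal elements. -/
theorem cent_pos_all (hC : CommF.{v} D) {A : Set (GL D.Idx K)} (hA : A ⊆ D.diagonalSubgroup K)
    {u : GL D.Idx K} (hu : u ∈ rootClosure D K (D.nroots / 2 ≤ ·)) (hc : ∀ d ∈ A, d * u * d⁻¹ = u) :
    u ∈ rootClosure D K (fun r => ∀ c : ℕ → Kˣ, hT D c ∈ A → chiT D c r = 1) := by
  have hev := hF.nroots_even
  obtain ⟨t, rfl⟩ := hF.exists_ordered hC (m := D.nroots / 2) (k := D.nroots / 2) (by omega) le_rfl hu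
  refine wU_mem fun p hp => ?_
  obtain ⟨r, hr, rfl⟩ := List.mem_map.1 hp
  have hr' := hr
  rw [List.mem_range'_1] at hr'
  by_cases h0 : t r = 0
  · rw [h0, hF.xU_zero (by omega)]; exact one_mem _
  refine xU_mem_rootClosure (by omega) (fun c hcA => ?_) _
  have h1 := hc _ hcA
  rw [hT, CfsgLib.Known.G2Singer.conj_wU hF (hF.isWeight_hT c) _ (fun p hp => by
    obtain ⟨s, hs, rfl⟩ := List.mem_map.1 hp
    rw [List.mem_range'_1] at hs
    show s < D.nroots
    omega), List.map_map] at h1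
  have h2 := hF.ordered_unique (m := D.nroots / 2) (k := D.nroots / 2) (by omega) le_rfl
    (t := fun s => ((∏ i ∈ Finset.range D.rank, c i ^ D.cartan i s : Kˣ) : K) * t s) (t' := t) h1 r hr'.1 (by omega)
  exact Units.ext (mul_right_cancel₀ h0 (h2.trans (one_mul _).symm))

/-- An element centralising a family of diagonal elements, by the Bruhat decomposition. -/
theorem decompose_all (hC : CommF.{v} D) {A : Set (GL D.Idx K)} (hA : A ⊆ D.diagonalSubgroup K)
    {g : GL D.Idx K} (hg : g ∈ D.group K) (h : ∀ d ∈ A, Commute g d) :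
    ∃ u1 k n u : GL D.Idx K,
      u1 ∈ rootClosure D K (fun r => ∀ c : ℕ → Kˣ, hT D c ∈ A → chiT D c r = 1) ∧
      k ∈ D.diagonalSubgroup K ∧
      (n ∈ D.monomialSubgroup K ∧ n ∈ D.group K ∧ ∀ d ∈ A, Commute n d) ∧
      u ∈ rootClosure D K (fun r => ∀ c : ℕ → Kˣ, hT D c ∈ A → chiT D c r = 1) ∧
      g = u1 * k * n * u := by
  obtain ⟨b, hb, n, hn, σ, hσ, u, hu, rfl⟩ := hF.bruhat_exists hC hg
  obtain ⟨u1, hu1, k, hk, rfl⟩ := hF.mem_borel_iff.1 hb
  have key : ∀ d ∈ A, d * u1 * d⁻¹ = u1 ∧ Commute n d ∧ d * u * d⁻¹ = u := by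
    intro d hdA
    have hd := hA hdA
    obtain ⟨c, hc⟩ := hF.mem_diagonal_iff.1 hd
    have hu1c : d * u1 * d⁻¹ ∈ rootClosure D K (D.nroots / 2 ≤ ·) :=
      (Subgroup.mem_normalizer_iff.1 (hF.diagonal_le_normalizer _ hd) u1).1 hu1
    have huc : d * u * d⁻¹ ∈ rootClosure D K (PosFlip σ) :=
      (Subgroup.mem_normalizer_iff.1 (hF.diagonal_le_normalizer _ hd) u).1 hu
    have hkc : d * k = k * d := by
      obtain ⟨a, rfl⟩ := hF.mem_diagonal_iff.1 hk
      rw [hc, hT, hT]
      exact (dU_commute _ _).eq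
    set e := n * d * n⁻¹ with he
    have heD : e ∈ D.diagonalSubgroup K := monomial_conj_diag hF hn hd
    have hb' : d * u1 * d⁻¹ * (k * d * e⁻¹) ∈ D.borelSubgroup K :=
      Subgroup.mul_mem _ (hF.pos_le_borel hu1c) (hF.diagonal_le_borel
        (Subgroup.mul_mem _ (Subgroup.mul_mem _ hk hd) (Subgroup.inv_mem _ heD)))
    have heq : u1 * k * n * u = d * u1 * d⁻¹ * (k * d * e⁻¹) * n * (d * u * d⁻¹) := by
      calc u1 * k * n * u = (u1 * k * n * u * d) * d⁻¹ := by group
        _ = (d * (u1 * k * n * u)) * d⁻¹ := by rw [(h d hdA).eq]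
        _ = d * u1 * d⁻¹ * (d * k) * n * u * d⁻¹ := by group
        _ = d * u1 * d⁻¹ * (k * d) * n * u * d⁻¹ := by rw [hkc]
        _ = _ := by rw [he]; group
    obtain ⟨hbe, hue⟩ := hF.bruhat_unique hσ hb hb' hu huc heq
    have e2 : (d * u1 * d⁻¹)⁻¹ * u1 = k * d * e⁻¹ * k⁻¹ := by
      rw [eq_mul_inv_iff_mul_eq, mul_assoc, hbe]
      group
    have e3 : (d * u1 * d⁻¹)⁻¹ * u1 ∈ rootClosure D K (D.nroots / 2 ≤ ·) ⊓ D.diagonalSubgroup K :=
      ⟨Subgroup.mul_mem _ (Subgroup.inv_mem _ hu1c) hu1,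
        e2 ▸ Subgroup.mul_mem _ (Subgroup.mul_mem _ (Subgroup.mul_mem _ hk hd)
          (Subgroup.inv_mem _ heD)) (Subgroup.inv_mem _ hk)⟩
    rw [hF.pos_inf_diagonal, Subgroup.mem_bot] at e3
    rw [e3, eq_comm, mul_inv_eq_one, mul_assoc, mul_eq_left, mul_inv_eq_one] at e2
    refine ⟨inv_mul_eq_one.1 e3, ?_, hue.symm⟩
    show n * d = d * n
    nth_rw 2 [e2]
    rw [he]
    group
  refine ⟨u1, k, n, u, cent_pos_all hF hC hA hu1 fun d hd => (key d hd).1, hk, ⟨hn, ?_, fun d hd => (key d hd).2.1⟩,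
    cent_pos_all hF hC hA (rootClosure_mono (fun _ _ h => h.2.1) hu) fun d hd => (key d hd).2.2, rfl⟩
  obtain ⟨l, k', hk', hlk⟩ := hF.exists_nW hn
  rw [hlk]
  refine Subgroup.mul_mem _ ?_ (hF.diagonal_le_group hk')
  refine Subgroup.list_prod_mem _ fun y hy => ?_
  obtain ⟨j, -, rfl⟩ := List.mem_map.1 hy
  have hp := hF.simple_lt' j.isLt
  exact Subgroup.mul_mem _ (Subgroup.mul_mem _ (hF.xU_mem_group hp _) (hF.xU_mem_group (hF.neg_lt hp) _))
    (hF.xU_mem_group hp _)

/-- A diagonal element of odd order commuting with `n_r` is killed by `r`. -/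
theorem chi_eq_one_of_commute_nU {c : ℕ → Kˣ} {m s : ℕ} (hm : Odd m) (hs : s < D.nroots)
    (hpow : hT D c ^ m = 1) (hcom : Commute (nU D s (1 : K)) (hT D c)) : chiT D c s = 1 := by
  have e1 : nU D s (1 : K) * (hT D c * xU D s 1 * (hT D c)⁻¹) * (nU D s 1)⁻¹ =
      hT D c * (nU D s 1 * xU D s 1 * (nU D s 1)⁻¹) * (hT D c)⁻¹ := by
    calc nU D s (1 : K) * (hT D c * xU D s 1 * (hT D c)⁻¹) * (nU D s 1)⁻¹
        = (nU D s 1 * hT D c) * xU D s 1 * (nU D s 1 * hT D c)⁻¹ := by group
      _ = (hT D c * nU D s 1) * xU D s 1 * (hT D c * nU D s 1)⁻¹ := by rw [hcom.eq]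
      _ = _ := by group
  rw [hF.hT_conj_xU c hs, hF.nU_conj_self hs, hF.nU_conj_self hs, hF.hT_conj_xU c (hF.neg_lt hs),
    mul_one] at e1
  have e2 := hF.xU_left_inj (hF.neg_lt hs) e1
  rw [mul_neg_one, neg_inj] at e2
  have hneg : chiT D c (D.neg s) = (chiT D c s)⁻¹ := by
    have := (hF.isWeight_hT c).neg s hs
    exact Additive.ofMul.injective (by simpa [chiT] using this)
  have h2 : chiT D c s * chiT D c s = 1 := by
    refine mul_eq_one_iff_eq_inv.2 ?_
    rw [← hneg]
    exact Units.ext e2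
  have h3 := chiT_pow_eq_one hF hpow hs
  obtain ⟨j, rfl⟩ := hm
  rwa [pow_succ, pow_mul, sq, h2, one_pow, one_mul] at h3

end Bruhat

/-- The prime part of the order. -/
theorem fact_group {L : Type v} [Field L] [Finite L] (hC : CommF.{v} D) {degs : List ℕ}
    (hP : ∀ x : ℤ, (∑ σ ∈ wFin D D.rank, x ^ flipNum σ) * (x - 1) ^ D.rank =
      (degs.map fun e => x ^ e - 1).prod)
    {r : ℕ} [hr : Fact r.Prime] (hdeg : ∀ e ∈ degs, ¬ r ∣ e) {m : ℕ} (hm : ¬ r ∣ m)
    (hH : m * Nat.card ↥(D.diagonalSubgroup L) = (Nat.card L - 1) ^ D.rank) (hL : ¬ r ∣ Nat.card L) :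
    (Nat.card ↥(D.group L)).factorization r =
      (degs.filter fun e => orderOf (Nat.card L : ZMod r) ∣ e).length *
        padicValNat r (Nat.card L ^ orderOf (Nat.card L : ZMod r) - 1) := by
  have h := hF.card_group_formula hC hP hH
  have h2 : 2 ≤ Nat.card L := Finite.one_lt_card
  have hq0 : Nat.card L ^ (D.nroots / 2) ≠ 0 := pow_ne_zero _ (by omega)
  have hp0 : (degs.map fun e => Nat.card L ^ e - 1).prod ≠ 0 := List.prod_ne_zero fun h0 => by
    obtain ⟨e, he, he0⟩ := List.mem_map.1 h0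
    have := Nat.one_lt_pow (fun (e0 : e = 0) => hdeg e he (by rw [e0]; exact dvd_zero r)) (by omega : 1 < Nat.card L)
    omega
  have hne : m * Nat.card ↥(D.group L) ≠ 0 := h ▸ mul_ne_zero hq0 hp0
  have := congrArg (fun x : ℕ => x.factorization r) h
  simp only [Nat.factorization_mul (left_ne_zero_of_mul hne) (right_ne_zero_of_mul hne),
    Nat.factorization_mul hq0 hp0, Finsupp.add_apply, Nat.factorization_eq_zero_of_not_dvd hm,
    Nat.factorization_pow, Finsupp.smul_apply, Nat.factorization_eq_zero_of_not_dvd hL, smul_zero,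
    zero_add, factorization_prod h2 degs hdeg] at this
  exact this

/-- The structure of the Sylow subgroups. -/
theorem chev_sylow {F : Type u} [Field F] [Finite F] (hC : CommF.{u} D) (hC0 : CommF.{0} D)
    {degs : List ℕ} (hlen : degs.length = D.rank)
    (hP : ∀ x : ℤ, (∑ σ ∈ wFin D D.rank, x ^ flipNum σ) * (x - 1) ^ D.rank =
      (degs.map fun e => x ^ e - 1).prod)
    {r : ℕ} [hr : Fact r.Prime] (hr2 : r ≠ 2) (hrq : ¬ r ∣ Nat.card F) (hdeg : ∀ e ∈ degs, ¬ r ∣ e)
    {mF : ℕ} (hmF : ¬ r ∣ mF) (hHF : mF * Nat.card ↥(D.diagonalSubgroup F) = (Nat.card F - 1) ^ D.rank)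
    (hHK : ∀ (K : Type) [Field K] [Finite K], ∃ m, ¬ r ∣ m ∧
      m * Nat.card ↥(D.diagonalSubgroup K) = (Nat.card K - 1) ^ D.rank)
    (P : Sylow r ↥(D.group F)) :
    Nonempty (↥(P : Subgroup ↥(D.group F)) ≃*
      (Fin (degs.filter fun e => orderOf (Nat.card F : ZMod r) ∣ e).length →
        Multiplicative (ZMod (r ^ padicValNat r (Nat.card F ^ orderOf (Nat.card F : ZMod r) - 1))))) := by
  classical
  set q := Nat.card F with hq
  have hq2 : 2 ≤ q := Finite.one_lt_card
  set d := orderOf (q : ZMod r) with hd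
  have hd0 : 0 < d := CfsgLib.PrimeGraphPSL.orderOf_natCast_pos hr.out hrq
  haveI : NeZero d := ⟨hd0.ne'⟩
  obtain ⟨p, hp⟩ := CharP.exists F
  haveI := hp
  haveI : Fact p.Prime := ⟨CharP.char_is_prime F p⟩
  let K := FiniteField.Extension F p d
  have hQ : Nat.card K = q ^ d := FiniteField.natCard_extension F p d
  let ι : F →+* K := algebraMap F K
  haveI : Fintype K := Fintype.ofFinite K
  haveI : Fintype F := Fintype.ofFinite F
  obtain ⟨n, hn⟩ : ∃ n : ℕ, q = p ^ n := by
    obtain ⟨n, -, h⟩ := FiniteField.card F p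
    exact ⟨n, by rw [hq, Nat.card_eq_fintype_card, h]⟩
  haveI : CharP K p := charP_of_injective_ringHom ι.injective p
  let φ : K →+* K := iterateFrobenius K p n
  have hφ : ∀ x, φ x = x ^ q := fun x => by rw [hn]; exact iterateFrobenius_def ..
  have hφι : ∀ t : F, φ (ι t) = ι t := fun t => by
    rw [hφ, ← map_pow, hq, Nat.card_eq_fintype_card, FiniteField.pow_card]
  have hfix : ∀ x : K, φ x = x → ∃ t, ι t = x := by
    intro x hx
    rw [hφ] at hx
    let S : Finset K := Finset.univ.image ι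
    have hS : S.card = q := by
      rw [Finset.card_image_of_injective _ ι.injective, Finset.card_univ, hq, Nat.card_eq_fintype_card]
    have hsub : S ⊆ (Polynomial.X ^ q - Polynomial.X : Polynomial K).roots.toFinset := fun y hy => by
      obtain ⟨t, -, rfl⟩ := Finset.mem_image.1 hy
      rw [Multiset.mem_toFinset, Polynomial.mem_roots (FiniteField.X_pow_card_sub_X_ne_zero K (by omega))]
      simp [Polynomial.IsRoot, ← hφ, hφι]
    have hle : (Polynomial.X ^ q - Polynomial.X : Polynomial K).roots.toFinset.card ≤ q := by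
      refine (Multiset.toFinset_card_le _).trans ((Polynomial.card_roots' _).trans ?_)
      rw [FiniteField.X_pow_card_sub_X_natDegree_eq K (by omega)]
    have heq := Finset.eq_of_subset_of_card_le hsub (hS ▸ hle)
    have hx' : x ∈ S := by
      rw [heq, Multiset.mem_toFinset, Polynomial.mem_roots (FiniteField.X_pow_card_sub_X_ne_zero K (by omega))]
      simp [Polynomial.IsRoot, hx]
    obtain ⟨t, -, ht⟩ := Finset.mem_image.1 hx'
    exact ⟨t, ht⟩
  -- the groups and the maps
  let f : ↥(D.group F) →* ↥(D.group K) :=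
    ((extG D ι).comp (D.group F).subtype).codRestrict _ fun x => extG_mem_group ι hF x.2
  have hf : Function.Injective f := fun x y h => Subtype.ext (extG_injective ι (congrArg Subtype.val h))
  let σ₀ : ↥(D.group K) →* ↥(D.group K) :=
    ((gMap D φ).comp (D.group K).subtype).codRestrict _ fun x => gMap_mem_group hF φ x.2
  have hσb : Function.Bijective σ₀ := by
    refine Finite.injective_iff_bijective.1 fun x y h => Subtype.ext ?_
    exact extG_injective φ (congrArg Subtype.val h)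
  let σ : MulAut ↥(D.group K) := MulEquiv.ofBijective σ₀ hσb
  have hσv : ∀ x : ↥(D.group K), ((σ x : ↥(D.group K)) : GL D.Idx K) = gMap D φ x := fun x => rfl
  have hσd : σ ^ d = 1 := by
    have key : ∀ (j : ℕ) (x : ↥(D.group K)) (a b : D.Idx),
        (((σ ^ j) x : ↥(D.group K)) : GL D.Idx K).val a b = ((x : GL D.Idx K).val a b) ^ (q ^ j) := by
      intro j
      induction j with
      | zero => intro x a b; simp
      | succ j ih =>
        intro x a b
        rw [pow_succ', MulAut.mul_apply, hσv]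
        show φ _ = _
        rw [hφ, ih, ← pow_mul, ← pow_succ]
    refine MulEquiv.ext fun x => Subtype.ext (Units.ext (Matrix.ext fun a b => ?_))
    rw [key, ← hQ, Nat.card_eq_fintype_card, FiniteField.pow_card]
    rfl
  have hrd : ¬ r ∣ d := fun h => by
    have h1 : d ∣ r - 1 := by
      have hne : (q : ZMod r) ≠ 0 := fun e => hrq ((ZMod.natCast_eq_zero_iff _ _).1 e)
      exact ZMod.orderOf_dvd_card_sub_one hne
    have := Nat.le_of_dvd (by have := hr.out.two_le; omega) (h.trans h1)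
    have := hr.out.two_le
    omega
  let Fx : Subgroup ↥(D.group K) :=
    { carrier := {x | σ x = x}
      one_mem' := map_one σ
      mul_mem' := fun ha hb => by simp only [Set.mem_setOf_eq, map_mul] at ha hb ⊢; rw [ha, hb]
      inv_mem' := fun ha => by simp only [Set.mem_setOf_eq, map_inv] at ha ⊢; rw [ha] }
  have hext : ∀ y : GL D.Idx F, gMap D φ (extG D ι y) = extG D ι y := fun y =>
    Units.ext (Matrix.ext fun a b => hφι _)
  have hfF : f.range ≤ Fx := by
    rintro x ⟨y, rfl⟩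
    exact Subtype.ext (hext _)
  have hgen : fixedGen D φ ≤ (D.group F).map (extG D ι) := by
    refine (Subgroup.closure_le _).2 ?_
    rintro x ⟨s, t, hs, ht, rfl⟩
    obtain ⟨t', rfl⟩ := hfix t ht
    exact ⟨xU D s t', hF.xU_mem_group hs t', extG_xU ι hF hs t'⟩
  have hrange : (D.group F).map (extG D ι) ≤ fixedGen D φ := by
    rw [hF.group_eq, Subgroup.map_le_iff_le_comap]
    refine (Subgroup.closure_le _).2 ?_
    rintro x ⟨s, t, hs, -, rfl⟩
    rw [SetLike.mem_coe, Subgroup.mem_comap, extG_xU ι hF hs]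
    exact xU_mem_fixedGen φ hs (hφι t)
  -- the index
  let Hf : Subgroup ↥(D.group K) := (D.diagonalSubgroup K).subgroupOf (D.group K) ⊓ Fx
  have hidx : f.range.relIndex Fx ∣ mF := by
    have hN : (f.range.subgroupOf Fx).Normal := by
      refine ⟨fun x hx g => ?_⟩
      rw [Subgroup.mem_subgroupOf] at hx ⊢
      obtain ⟨e, he, h, hh, hhf, hgeq⟩ := fixed_decomp hF hC0 φ (g := ((g : ↥(D.group K)) : GL D.Idx K))
        (g : ↥(D.group K)).2 (congrArg Subtype.val g.2)
      obtain ⟨y, hy⟩ := hx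
      have h1 : h * ((x : ↥(D.group K)) : GL D.Idx K) * h⁻¹ ∈ fixedGen D φ := by
        refine fixed_diag_normalizes hF φ hh hhf (hrange ⟨y, y.2, ?_⟩)
        rw [← hy]; rfl
      obtain ⟨z, hz, hz'⟩ := hgen (Subgroup.mul_mem _ (Subgroup.mul_mem _ he h1) (Subgroup.inv_mem _ he))
      refine ⟨⟨z, hz⟩, Subtype.ext ?_⟩
      show extG D ι z = _
      rw [hz']
      simp only [Subgroup.coe_mul, Subgroup.coe_inv, hgeq]
      group
    haveI := hN
    let π : ↥Hf →* ↥Fx ⧸ (f.range.subgroupOf Fx) :=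
      (QuotientGroup.mk' _).comp (Subgroup.inclusion inf_le_right)
    have hπ : Function.Surjective π := by
      rintro ⟨g⟩
      obtain ⟨e, he, h, hh, hhf, hgeq⟩ := fixed_decomp hF hC0 φ (g := ((g : ↥(D.group K)) : GL D.Idx K))
        (g : ↥(D.group K)).2 (congrArg Subtype.val g.2)
      refine ⟨⟨⟨h, hF.diagonal_le_group hh⟩, Subgroup.mem_subgroupOf.2 hh, Subtype.ext hhf⟩, ?_⟩
      refine QuotientGroup.eq.2 ?_
      rw [Subgroup.mem_subgroupOf]
      have h1 := fixed_diag_normalizes hF φ (Subgroup.inv_mem _ hh) (by rw [map_inv, hhf]) he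
      rw [inv_inv] at h1
      obtain ⟨w, hw, hw'⟩ := hgen h1
      refine ⟨⟨w, hw⟩, Subtype.ext ?_⟩
      show extG D ι w = _
      rw [hw']
      simp only [Subgroup.coe_mul, Subgroup.coe_inv, Subgroup.coe_inclusion, hgeq]
      group
    have h1 : f.range.relIndex Fx = Nat.card (↥Fx ⧸ (f.range.subgroupOf Fx)) := rfl
    let j : ↥(D.diagonalSubgroup F) →* ↥Hf :=
      (((f.comp (Subgroup.inclusion hF.diagonal_le_group))).codRestrict Hf fun x =>
        ⟨by
          obtain ⟨c, hc⟩ := hF.mem_diagonal_iff.1 x.2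
          show extG D ι (x : GL D.Idx F) ∈ D.diagonalSubgroup K
          rw [hc, extG_hT]
          exact hF.mem_diagonal_iff.2 ⟨_, rfl⟩, hfF ⟨_, rfl⟩⟩)
    have hj : Function.Injective j := fun x y h => Subtype.ext (extG_injective ι
      (congrArg (fun w : ↥Hf => ((w : ↥(D.group K)) : GL D.Idx K)) h))
    have hjker : j.range ≤ π.ker := by
      rintro _ ⟨x, rfl⟩
      rw [MonoidHom.mem_ker]
      refine (QuotientGroup.eq_one_iff _).2 ?_
      rw [Subgroup.mem_subgroupOf]
      exact ⟨_, rfl⟩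
    have h2 : Nat.card (↥Fx ⧸ (f.range.subgroupOf Fx)) ∣ j.range.index := by
      rw [← Subgroup.card_top, ← MonoidHom.range_eq_top.2 hπ, ← Subgroup.index_ker]
      exact Subgroup.index_dvd_of_le hjker
    -- characters of fixed diagonal elements
    let M := (powMonoidHom (q - 1) : Kˣ →* Kˣ).ker
    have hMcard : Nat.card M = q - 1 := by
      rw [IsCyclic.card_powMonoidHom_ker, Nat.card_units, hQ, Nat.gcd_eq_right]
      simpa using Nat.sub_dvd_pow_sub_pow q 1 d
    have hch : ∀ h : ↥Hf, ∃ c : ℕ → Kˣ, ((h : ↥(D.group K)) : GL D.Idx K) = hT D c :=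
      fun h => hF.mem_diagonal_iff.1 h.2.1
    choose cc hcc using hch
    have hM : ∀ (h : ↥Hf) (i : Fin D.rank), chiT D (cc h) (D.simple i.val) ∈ M := by
      intro h i
      have hs := hF.simple_lt' i.isLt
      have e : gMap D φ (hT D (cc h)) = hT D (cc h) := by
        rw [← hcc]; exact congrArg Subtype.val h.2.2
      rw [show gMap D φ (hT D (cc h)) = hT D (fun i => Units.map φ.toMonoidHom (cc h i)) from
        gMap_hT hF φ _] at e
      have e1 := chiT_eq_of_hT e hs
      rw [chiT_map] at e1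
      rw [MonoidHom.mem_ker, powMonoidHom_apply]
      refine mul_right_cancel (b := chiT D (cc h) (D.simple i.val)) ?_
      rw [one_mul, ← pow_succ, Nat.sub_add_cancel (by omega : 1 ≤ q)]
      refine Units.ext ?_
      rw [Units.val_pow_eq_pow_val, ← hφ]
      exact congrArg Units.val e1
    let χ : ↥Hf →* (Fin D.rank → M) := MonoidHom.mk' (fun h i => ⟨_, hM h i⟩) fun x y => by
      funext i
      refine Subtype.ext ?_
      show chiT D (cc (x * y)) (D.simple i.val) =
        chiT D (cc x) (D.simple i.val) * chiT D (cc y) (D.simple i.val)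
      rw [← chiT_mul]
      refine chiT_eq_of_hT ?_ (hF.simple_lt' i.isLt)
      rw [hF.hT_mul, ← hcc, ← hcc, ← hcc]
      rfl
    have hχ : Function.Injective χ := by
      refine (injective_iff_map_eq_one χ).2 fun h hh => Subtype.ext (Subtype.ext ?_)
      rw [hcc h]
      refine (hF.hT_eq_one_iff _).2 (funext fun i => ?_)
      refine Eq.trans ?_ (congrArg Subtype.val (congrFun hh i))
      exact Fin.prod_univ_eq_prod_range (fun j => cc h j ^ D.cartan j (D.simple i.val)) D.rank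
    have h3 : Nat.card ↥Hf ∣ (q - 1) ^ D.rank := by
      refine (Subgroup.card_dvd_of_injective χ hχ).trans ?_
      rw [Nat.card_fun, hMcard, Nat.card_fin]
    have h4 : Nat.card j.range * j.range.index = Nat.card ↥Hf := Subgroup.card_mul_index _
    rw [← Nat.card_congr (MonoidHom.ofInjective hj).toEquiv] at h4
    rw [h1]
    refine h2.trans ?_
    rw [← h4, ← hHF, mul_comm mF] at h3
    exact Nat.dvd_of_mul_dvd_mul_left Nat.card_pos h3
  -- the Sylow subgroup of the diagonal group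
  obtain ⟨mK, hmK, hHK'⟩ := hHK K
  set v := padicValNat r (q ^ d - 1) with hv
  have hQ1 : r ∣ Nat.card K - 1 := by
    rw [hQ]
    exact (CfsgLib.PrimeGraphPSL.orderOf_natCast_dvd_iff (by omega : 1 ≤ q)).1 dvd_rfl
  have hQne : Nat.card K - 1 ≠ 0 := by
    have : 1 < Nat.card K := Finite.one_lt_card
    omega
  have hv0 : v ≠ 0 := by
    rw [hv, ← hQ]
    exact (one_le_padicValNat_of_dvd hQne hQ1).trans_lt' Nat.zero_lt_one |>.ne'
  have hvK : r ^ v ∣ Nat.card Kˣ := by
    rw [Nat.card_units, hv, ← hQ]; exact pow_padicValNat_dvd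
  let Mr := (powMonoidHom (r ^ v) : Kˣ →* Kˣ).ker
  have hMr : Nat.card Mr = r ^ v := by
    rw [IsCyclic.card_powMonoidHom_ker, Nat.gcd_eq_right hvK]
  let ext : (Fin D.rank → Mr) → ℕ → Kˣ := fun c i => if h : i < D.rank then (c ⟨i, h⟩ : Kˣ) else 1
  let Φ : (Fin D.rank → Mr) →* ↥(D.group K) :=
    MonoidHom.mk' (fun c => ⟨hT D (ext c), hF.diagonal_le_group (hF.mem_diagonal_iff.2 ⟨_, rfl⟩)⟩)
      fun a b => by
        refine Subtype.ext ?_
        show hT D (ext (a * b)) = hT D (ext a) * hT D (ext b)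
        rw [← hF.hT_mul]
        congr 1
        funext i
        by_cases h : i < D.rank <;> simp [ext, h]
  have hpow : ∀ c, (Φ c) ^ r ^ v = 1 := fun c => by
    rw [← map_pow, show c ^ r ^ v = 1 from funext fun i => Subtype.ext (c i).2, map_one]
  have hΦ : Function.Injective Φ := by
    refine (injective_iff_map_eq_one Φ).2 fun c hc => ?_
    have h1 : actM (cartanMat D) (fun i : Fin D.rank => ext c i.val) = 1 :=
      (hF.hT_eq_one_iff (ext c)).1 (congrArg Subtype.val hc)
    have h2 : orderOf (fun i : Fin D.rank => ext c i.val) ∣ Nat.card (actM (A := Kˣ) (cartanMat D)).ker := by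
      have := orderOf_dvd_natCard (⟨_, h1⟩ : (actM (A := Kˣ) (cartanMat D)).ker)
      rwa [← Subgroup.orderOf_coe] at this
    have h3 : orderOf (fun i : Fin D.rank => ext c i.val) ∣ r ^ v := orderOf_dvd_of_pow_eq_one (by
      funext i
      simp only [Pi.pow_apply, ext, i.isLt, dif_pos, Pi.one_apply]
      exact (c i).2)
    have h4 : Nat.card (actM (A := Kˣ) (cartanMat D)).ker = mK := by
      refine Nat.eq_of_mul_eq_mul_left (Nat.card_pos (α := ↥(D.diagonalSubgroup K))) ?_
      rw [hF.card_diagonal, ← hHK', mul_comm]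
    have h5 : orderOf (fun i : Fin D.rank => ext c i.val) = 1 := Nat.eq_one_of_dvd_coprimes
      ((hr.out.coprime_iff_not_dvd.2 hmK).pow_left v).symm (h4 ▸ h2) h3
    rw [orderOf_eq_one_iff] at h5
    funext i
    refine Subtype.ext ?_
    have := congrFun h5 i
    simpa [ext] using this
  have hfact : ∀ (L : Type) [Field L] [Finite L] (m : ℕ), ¬ r ∣ m →
      m * Nat.card ↥(D.diagonalSubgroup L) = (Nat.card L - 1) ^ D.rank → ¬ r ∣ Nat.card L →
      (Nat.card ↥(D.group L)).factorization r =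
        (degs.filter fun e => orderOf (Nat.card L : ZMod r) ∣ e).length *
          padicValNat r (Nat.card L ^ orderOf (Nat.card L : ZMod r) - 1) := by
    intro L _ _ m hm hH hL
    exact fact_group hF hC0 hP hdeg hm hH hL
  have hKr : ¬ r ∣ Nat.card K := fun h => hrq (by rw [hQ] at h; exact hr.out.dvd_of_dvd_pow h)
  have hord1 : orderOf (Nat.card K : ZMod r) = 1 := by
    rw [orderOf_eq_one_iff, hQ, Nat.cast_pow, hd, pow_orderOf_eq_one]
  have hTp : IsPGroup r Φ.range := by
    rintro ⟨x, c, rfl⟩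
    exact ⟨v, Subtype.ext (hpow c)⟩
  have hTcard : Nat.card Φ.range = r ^ (Nat.card ↥(D.group K)).factorization r := by
    rw [← Nat.card_congr (MonoidHom.ofInjective hΦ).toEquiv, Nat.card_fun, hMr, Nat.card_fin,
      hfact K mK hmK hHK' hKr, hord1, pow_one, hQ, ← hv, ← pow_mul]
    congr 1
    rw [List.filter_eq_self.2 (by simp), hlen, mul_comm]
  let T : Sylow r ↥(D.group K) := Sylow.ofCard Φ.range hTcard
  have hTmem : ∀ x, x ∈ (T : Subgroup ↥(D.group K)) ↔ x ∈ Φ.range := fun x => by rw [Sylow.coe_ofCard]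
  -- divisibility
  have hMdiv : ∀ x : Mr, ∀ j ≤ v, x ^ r ^ j = 1 → ∃ z : Mr, z ^ r ^ (v - j) = x := by
    intro x j hj hxj
    haveI : IsCyclic Mr := Subgroup.isCyclic _
    obtain ⟨g, hg⟩ := IsCyclic.exists_generator (α := Mr)
    obtain ⟨k, rfl⟩ := (mem_powers_iff_mem_zpowers (x := g)).2 (hg x)
    have hgo : orderOf g = r ^ v := by rw [orderOf_eq_card_of_forall_mem_zpowers hg, hMr]
    have h1 : r ^ v ∣ k * r ^ j := by
      rw [← hgo]; exact orderOf_dvd_of_pow_eq_one (by rwa [pow_mul])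
    rw [show r ^ v = r ^ (v - j) * r ^ j by rw [← pow_add, Nat.sub_add_cancel hj]] at h1
    obtain ⟨k', rfl⟩ := Nat.dvd_of_mul_dvd_mul_right (pow_pos hr.out.pos _) h1
    exact ⟨g ^ k', by rw [← pow_mul, mul_comm]⟩
  have hdiv : RootDiv r v (T : Subgroup ↥(D.group K)) := by
    intro x hx j hj hxj
    obtain ⟨c, rfl⟩ := (hTmem x).1 hx
    have hc : ∀ i, c i ^ r ^ j = 1 := fun i => by
      rw [← map_pow, ← map_one Φ] at hxj
      exact congrFun (hΦ hxj) i
    choose z hz using fun i => hMdiv (c i) j hj (hc i)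
    exact ⟨Φ z, (hTmem _).2 ⟨z, rfl⟩, by rw [← map_pow, show z ^ r ^ (v - j) = c from funext hz]⟩
  have hTD : ∀ x ∈ (T : Subgroup ↥(D.group K)), (x : GL D.Idx K) ∈ D.diagonalSubgroup K := fun x hx => by
    obtain ⟨c, rfl⟩ := (hTmem x).1 hx
    exact hF.mem_diagonal_iff.2 ⟨_, rfl⟩
  have hTof : ∀ x : ↥(D.group K), (x : GL D.Idx K) ∈ D.diagonalSubgroup K → x ^ r ^ v = 1 →
      x ∈ (T : Subgroup ↥(D.group K)) := fun x hx hxv => by
    refine mem_sylow T hxv (Subgroup.centralizer_le_normalizer _ (Subgroup.mem_centralizer_iff.2 ?_))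
    intro y hy
    obtain ⟨a, ha⟩ := hF.mem_diagonal_iff.1 hx
    obtain ⟨b, hb⟩ := hF.mem_diagonal_iff.1 (hTD y hy)
    refine Subtype.ext ?_
    show (y : GL D.Idx K) * x = x * y
    rw [ha, hb, hT, hT]
    exact (dU_commute _ _).eq
  refine sylow_homocyclic f hf σ hσd hrd (F := Fx) (fun x => Iff.rfl) hfF
    (fun h => hmF (h.trans hidx)) T (fun x hx y hy => ?_) hv0 (fun x hx => ?_) hdiv ?_
    (fact_group hF hC hP hdeg hmF hHF hrq) P
  · obtain ⟨a, rfl⟩ := (hTmem x).1 hx
    obtain ⟨b, rfl⟩ := (hTmem y).1 hy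
    exact (Commute.all a b).map Φ
  · obtain ⟨a, rfl⟩ := (hTmem x).1 hx
    exact hpow a
  -- the key property
  intro A hA t ht hcomN c hc
  let A' : Set (GL D.Idx K) := Subtype.val '' A
  have hA' : A' ⊆ D.diagonalSubgroup K := by
    rintro _ ⟨x, hx, rfl⟩; exact hTD x (hA hx)
  obtain ⟨ct, hct⟩ := hF.mem_diagonal_iff.1 (hTD t ht)
  have hNorm : ∀ n : ↥(D.group K), (n : GL D.Idx K) ∈ D.monomialSubgroup K →
      n ∈ Subgroup.normalizer ((T : Subgroup ↥(D.group K)) : Set ↥(D.group K)) := by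
    intro n hn
    refine Subgroup.mem_normalizer_iff.2 fun x => ⟨fun hx => ?_, fun hx => ?_⟩
    · refine hTof _ (monomial_conj_diag hF hn (hTD x hx)) ?_
      rw [conj_pow, show x ^ r ^ v = 1 by obtain ⟨a, rfl⟩ := (hTmem x).1 hx; exact hpow a, mul_one,
        mul_inv_cancel]
    · have h' : n⁻¹ * (n * x * n⁻¹) * n⁻¹⁻¹ ∈ (T : Subgroup ↥(D.group K)) := by
        refine hTof _ (monomial_conj_diag hF (Subgroup.inv_mem _ hn) (hTD _ hx)) ?_
        rw [conj_pow, show (n * x * n⁻¹) ^ r ^ v = 1 by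
          obtain ⟨a, ha⟩ := (hTmem _).1 hx; rw [← ha]; exact hpow a, mul_one, mul_inv_cancel]
      rwa [show n⁻¹ * (n * x * n⁻¹) * n⁻¹⁻¹ = x by group] at h'
  have htpow : hT D ct ^ r ^ v = 1 := by
    obtain ⟨a, ha⟩ := (hTmem t).1 ht
    rw [← hct, ← Subgroup.coe_pow, ← ha, hpow]; rfl
  have hroot : ∀ s, s < D.nroots → (∀ c' : ℕ → Kˣ, hT D c' ∈ A' → chiT D c' s = 1) →
      ∀ x : K, Commute (xU D s x) (t : GL D.Idx K) := by
    intro s hs hk x
    have hn : nU D s (1 : K) ∈ D.group K :=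
      Subgroup.mul_mem _ (Subgroup.mul_mem _ (hF.xU_mem_group hs _) (hF.xU_mem_group (hF.neg_lt hs) _))
        (hF.xU_mem_group hs _)
    have hnc : ∀ y ∈ A, Commute (⟨_, hn⟩ : ↥(D.group K)) y := by
      intro y hy
      obtain ⟨cy, hcy⟩ := hF.mem_diagonal_iff.1 (hTD y (hA hy))
      have h1 : chiT D cy s = 1 := hk cy ⟨y, hy, hcy⟩
      have h2 : chiT D cy (D.neg s) = 1 := by
        have h3 := (hF.isWeight_hT cy).neg s hs
        have h4 : chiT D cy (D.neg s) = (chiT D cy s)⁻¹ :=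
          Additive.ofMul.injective (by simpa [chiT] using h3)
        rw [h4, h1, inv_one]
      have hx' : ∀ {s' : ℕ}, s' < D.nroots → chiT D cy s' = 1 → ∀ z : K,
          Commute (xU D s' z) (hT D cy) := fun hs' h z => by
        have e := hF.hT_conj_xU cy hs' z
        rw [chiT] at h
        rw [h, Units.val_one, one_mul] at e
        exact (mul_inv_eq_iff_eq_mul.1 e).symm
      refine Subtype.ext ?_
      show nU D s (1 : K) * (y : GL D.Idx K) = (y : GL D.Idx K) * nU D s 1
      rw [hcy]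
      exact (((hx' hs h1 _).mul_left (hx' (hF.neg_lt hs) h2 _)).mul_left (hx' hs h1 _)).eq
    have hcn := congrArg Subtype.val (hcomN _ hnc (hNorm _ (hF.nU_mem_monomial hs))).eq
    have hone := chi_eq_one_of_commute_nU hF (m := r ^ v)
      ((hr.out.odd_of_ne_two hr2).pow) hs htpow (by rw [← hct]; exact hcn)
    have e := hF.hT_conj_xU ct hs x
    rw [chiT] at hone
    rw [hone, Units.val_one, one_mul] at e
    rw [hct]
    exact (mul_inv_eq_iff_eq_mul.1 e).symm
  obtain ⟨u1, k, n, u, hu1, hk, ⟨hn, hnG, hnA⟩, hu, hceq⟩ := decompose_all hF hC0 hA' (g := (c : GL D.Idx K)) c.2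
    (by rintro _ ⟨x, hx, rfl⟩; exact congrArg Subtype.val (hc x hx).eq)
  have hcl : ∀ {w : GL D.Idx K},
      w ∈ rootClosure D K (fun s => ∀ c' : ℕ → Kˣ, hT D c' ∈ A' → chiT D c' s = 1) →
      Commute w (t : GL D.Idx K) := by
    intro w hw
    refine Subgroup.mem_centralizer_singleton_iff.1 ((Subgroup.closure_le _).2 ?_ hw)
    rintro y ⟨s, x, hs, hP', rfl⟩
    exact Subgroup.mem_centralizer_singleton_iff.2 (hroot s hs hP' x).eq
  have hkc : Commute k (t : GL D.Idx K) := by
    obtain ⟨a, rfl⟩ := hF.mem_diagonal_iff.1 hk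
    rw [hct, hT, hT]
    exact dU_commute _ _
  have hnt : Commute n (t : GL D.Idx K) := congrArg Subtype.val (hcomN ⟨n, hnG⟩
    (fun x hx => Subtype.ext (hnA _ ⟨x, hx, rfl⟩).eq) (hNorm ⟨n, hnG⟩ hn)).eq
  refine Subtype.ext ?_
  show (c : GL D.Idx K) * t = t * c
  rw [hceq]
  exact ((((hcl hu1).mul_left hkc).mul_left hnt).mul_left (hcl hu)).eq

end CfsgLib.Chev.LargePrime
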